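import Mathlib.Algebra.Category.ModuleCat.Abelian
import Mathlib.Algebra.Homology.ShortComplex.ExactFunctor
import Mathlib.Algebra.Homology.ShortComplex.ModuleCat
import Mathlib.GroupTheory.GroupAction.Basic
import Mathlib.GroupTheory.GroupAction.Quotient
import Mathlib.RepresentationTheory.Homological.GroupCohomology.LowDegree
import Mathlib.RepresentationTheory.Rep.Res

/-!
Coflasque lattices: vanishing of `H¹` on all subgroups and splitting of permutation extensions.
-/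

set_option autoImplicit false

noncomputable section

open CategoryTheory groupCohomology
open scoped MonoidAlgebra

namespace Groth.L14.Coflasque

attribute [local instance 10000] Rep.hV2 Prod.instModule

variable {Γ : Type} [Group Γ]

/-- A point can be lifted to a vector fixed by its stabiliser. -/
theorem exists_fixed_lift {V W : Type} [AddCommGroup V] [AddCommGroup W] [Module ℤ V] [Module ℤ W]
    (σ : Representation ℤ Γ V) (τ : Representation ℤ Γ W) (Λ : Rep.{0} ℤ Γ) (p : V →ₗ[ℤ] W)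
    (hp : ∀ g v, p (σ g v) = τ g (p v)) (hsurj : Function.Surjective p)
    (i : Λ.V →ₗ[ℤ] V) (hi : ∀ g l, i (Λ.ρ g l) = σ g (i l)) (hinj : Function.Injective i)
    (hker : ∀ v, p v = 0 → ∃ l, i l = v) (hpi : ∀ l, p (i l) = 0)
    (H : Subgroup Γ) (hH : Limits.IsZero (groupCohomology (Rep.res H.subtype Λ) 1))
    (w : W) (hw : ∀ h ∈ H, τ h w = w) :
    ∃ v, p v = w ∧ ∀ h ∈ H, σ h v = v := by
  obtain ⟨v, hv⟩ := hsurj w
  have hex : ∀ h : H, ∃ l, i l = σ (h : Γ) v - v := fun h => hker _ (by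
    rw [map_sub, hp, hv, hw _ h.2, sub_self])
  choose c hc using hex
  let c' : H → (Rep.res H.subtype Λ) := c
  have hc' : c' ∈ cocycles₁ (Rep.res H.subtype Λ) := by
    rw [mem_cocycles₁_iff]
    intro g h
    show c (g * h) = Λ.ρ (g : Γ) (c h) + c g
    apply hinj
    rw [map_add, hi, hc, hc, hc, Subgroup.coe_mul, map_mul, Module.End.mul_apply, map_sub]
    abel
  have := ModuleCat.subsingleton_of_isZero hH
  obtain ⟨l, hl⟩ := (H1π_eq_zero_iff ⟨c', hc'⟩).mp (Subsingleton.elim _ _)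
  refine ⟨v - i l, by rw [map_sub, hv, hpi, sub_zero], fun h hh => ?_⟩
  have h1 : Λ.ρ h l - l = c ⟨h, hh⟩ := congrFun hl ⟨h, hh⟩
  have h2 := congrArg i h1
  rw [map_sub, hi, hc] at h2
  rw [map_sub, ← sub_eq_zero]
  calc σ h v - σ h (i l) - (v - i l) = (σ h v - v) - (σ h (i l) - i l) := by abel
    _ = 0 := by rw [h2, sub_self]

/-- Extending fixed lifts at orbit representatives to an equivariant lift of every point. -/
theorem exists_equivariant {X : Type} [MulAction Γ X] {V W : Type} [AddCommGroup V] [AddCommGroup W] [Module ℤ V] [Module ℤ W]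
    (σ : Representation ℤ Γ V) (τ : Representation ℤ Γ W) (p : V →ₗ[ℤ] W)
    (hp : ∀ g v, p (σ g v) = τ g (p v)) (w : X → W) (hw : ∀ (g : Γ) x, w (g • x) = τ g (w x))
    (hlift : ∀ x, ∃ v, p v = w x ∧ ∀ g ∈ MulAction.stabilizer Γ x, σ g v = v) :
    ∃ F : X → V, (∀ x, p (F x) = w x) ∧ ∀ (g : Γ) x, F (g • x) = σ g (F x) := by
  let rep : X → X := fun x => (Quotient.mk (MulAction.orbitRel Γ X) x).out
  have hrep : ∀ (g : Γ) x, rep (g • x) = rep x := fun g x =>
    congrArg Quotient.out (Quotient.sound (s := MulAction.orbitRel Γ X) ⟨g, rfl⟩)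
  have hex : ∀ x, ∃ γ : Γ, γ • rep x = x := fun x => by
    obtain ⟨g, hg⟩ := (Quotient.mk_out (s := MulAction.orbitRel Γ X) x : rep x ∈ MulAction.orbit Γ x)
    refine ⟨g⁻¹, ?_⟩
    show g⁻¹ • (Quotient.mk (MulAction.orbitRel Γ X) x).out = x
    rw [← show g • x = (Quotient.mk (MulAction.orbitRel Γ X) x).out from hg, inv_smul_smul]
  choose γ hγ using hex
  choose f hf hfix using hlift
  refine ⟨fun x => σ (γ x) (f (rep x)), fun x => by rw [hp, hf, ← hw, hγ], fun g x => ?_⟩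
  show σ (γ (g • x)) (f (rep (g • x))) = σ g (σ (γ x) (f (rep x)))
  rw [hrep, ← Module.End.mul_apply, ← map_mul]
  have hst : (g * γ x)⁻¹ * γ (g • x) ∈ MulAction.stabilizer Γ (rep x) := by
    have h1 := hγ (g • x)
    rw [hrep] at h1
    rw [MulAction.mem_stabilizer_iff, mul_smul, h1, inv_smul_eq_iff, mul_smul, hγ]
  conv_lhs => rw [← mul_inv_cancel_left (g * γ x) (γ (g • x)), map_mul, Module.End.mul_apply,
    hfix _ _ hst]

theorem exists_splitting (Λ : Rep.{0} ℤ Γ)
    (h : ∀ H : Subgroup Γ, Limits.IsZero (groupCohomology (Rep.res H.subtype Λ) 1))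
    (X : Type) [MulAction Γ X] (E : ShortComplex (Rep.{0} ℤ Γ)) (hE : E.ShortExact)
    (φ : E.X₁ ≅ Λ) (ψ : E.X₃ ≅ Rep.ofMulAction ℤ Γ X) : Nonempty E.Splitting := by
  have := hE.mono_f
  have := hE.epi_g
  have hfinj : Function.Injective E.f.hom := (Rep.mono_iff_injective _).mp inferInstance
  have hgsurj : Function.Surjective E.g.hom := (Rep.epi_iff_surjective _).mp inferInstance
  have hexact : ∀ v, E.g.hom v = 0 → ∃ l, E.f.hom l = v :=
    (ShortComplex.moduleCat_exact_iff _).mp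
      ((E.exact_map_iff_of_faithful (forget₂ (Rep.{0} ℤ Γ) (ModuleCat.{0} ℤ))).mpr hE.exact)
  have hfg : ∀ l, E.g.hom (E.f.hom l) = 0 := fun l => by
    rw [← Rep.comp_apply, E.zero]; rfl
  have hψ : ∀ (g : Γ) x, ψ.inv.hom (MonoidAlgebra.single (g • x) 1) =
      E.X₃.ρ g (ψ.inv.hom (MonoidAlgebra.single x 1)) := by
    intro g x
    rw [← Rep.hom_comm_apply]
    congr 1
    exact (Representation.ofMulAction_single g x 1).symm
  obtain ⟨F, hF, hFg⟩ := exists_equivariant (X := X) E.X₂.ρ E.X₃.ρ E.g.hom.toLinearMap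
    (fun g v => Rep.hom_comm_apply E.g g v) (fun x => ψ.inv.hom (MonoidAlgebra.single x 1)) hψ (by
      intro x
      refine exists_fixed_lift E.X₂.ρ E.X₃.ρ Λ E.g.hom.toLinearMap
        (fun g v => Rep.hom_comm_apply E.g g v) hgsurj
        (E.f.hom.toLinearMap ∘ₗ φ.inv.hom.toLinearMap) ?_ ?_ ?_ ?_ _ (h _) _ ?_
      · intro g l
        show E.f.hom (φ.inv.hom (Λ.ρ g l)) = E.X₂.ρ g (E.f.hom (φ.inv.hom l))
        rw [Rep.hom_comm_apply, Rep.hom_comm_apply]
      · intro a b hab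
        have := congrArg φ.hom.hom (hfinj hab)
        simpa using this
      · intro v hv
        obtain ⟨l, hl⟩ := hexact v hv
        exact ⟨φ.hom.hom l, by
          show E.f.hom (φ.inv.hom (φ.hom.hom l)) = v
          rw [Rep.inv_hom_apply, hl]⟩
      · intro l; exact hfg _
      · intro g hg; rw [← hψ, MulAction.mem_stabilizer_iff.mp hg])
  let L : ℤ[X] →ₗ[ℤ] E.X₂.V :=
    Finsupp.linearCombination ℤ F ∘ₗ (MonoidAlgebra.coeffLinearEquiv ℤ).toLinearMap
  have hL : ∀ x, L (MonoidAlgebra.single x 1) = F x := fun x => by simp [L]; exact @one_smul ℤ _ _ E.X₂.hV2.toMulAction _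
  let s₀ : Rep.ofMulAction ℤ Γ X ⟶ E.X₂ := Rep.ofHom
    (L.intertwiningMap_of_isIntertwiningMap (Representation.ofMulAction ℤ Γ X) E.X₂.ρ (by
      intro g v
      have : L ∘ₗ Representation.ofMulAction ℤ Γ X g = E.X₂.ρ g ∘ₗ L := by
        ext x
        simp [hL, hFg]
      exact LinearMap.congr_fun this v))
  refine ⟨ShortComplex.Splitting.ofExactOfSection E hE.exact (ψ.hom ≫ s₀) ?_ inferInstance⟩
  have h0 : s₀ ≫ E.g = ψ.inv := by
    refine Rep.hom_ext (Representation.IntertwiningMap.ext ?_)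
    ext x
    show E.g.hom (L (MonoidAlgebra.single x 1)) = ψ.inv.hom (MonoidAlgebra.single x 1)
    rw [hL]
    exact hF x
  rw [Category.assoc, h0, Iso.hom_inv_id]

section Extension

variable (Λ : Rep.{0} ℤ Γ) (H : Subgroup Γ) [DecidableEq (Γ ⧸ H)]

/-- A set of coset representatives containing the identity. -/
def sect (x : Γ ⧸ H) : Γ := if x = ((1 : Γ) : Γ ⧸ H) then 1 else x.out

theorem mk_sect (x : Γ ⧸ H) : ((sect H x : Γ) : Γ ⧸ H) = x := by
  unfold sect; split_ifs with h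
  · exact h.symm
  · exact QuotientGroup.out_eq' x

/-- The element of the subgroup attached to a group element and a coset. -/
def comp (g : Γ) (x : Γ ⧸ H) : H :=
  ⟨(sect H (g • x))⁻¹ * (g * sect H x), by
    rw [← QuotientGroup.eq, mk_sect, ← smul_eq_mul g (sect H x), ← MulAction.Quotient.smul_coe,
      mk_sect]⟩

theorem comp_mul (g g' : Γ) (x : Γ ⧸ H) :
    comp H (g * g') x = comp H g (g' • x) * comp H g' x := by
  ext; simp [comp, mul_smul, mul_assoc]

variable (c : H → Λ.V)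

/-- The cocycle on the permutation module induced by a cocycle on a subgroup. -/
def shap (g : Γ) (x : Γ ⧸ H) : Λ.V := Λ.ρ (sect H (g • x)) (c (comp H g x))

variable (hc : ∀ a b : H, c (a * b) = Λ.ρ (a : Γ) (c b) + c a)

include hc in
theorem shap_mul (g g' : Γ) (x : Γ ⧸ H) :
    shap Λ H c (g * g') x = Λ.ρ g (shap Λ H c g' x) + shap Λ H c g (g' • x) := by
  simp only [shap, comp_mul, hc, map_add, ← Module.End.mul_apply, ← map_mul, mul_smul]
  congr 2
  simp [comp, mul_assoc]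

/-- The linear extension of the cocycle. -/
def shapL (g : Γ) : ℤ[Γ ⧸ H] →ₗ[ℤ] Λ.V :=
  Finsupp.linearCombination ℤ (shap Λ H c g) ∘ₗ (MonoidAlgebra.coeffLinearEquiv ℤ).toLinearMap

/-- The extension of the permutation module by `Λ` attached to a cocycle. -/
def extRep : Representation ℤ Γ (Λ.V × ℤ[Γ ⧸ H]) where
  toFun g := LinearMap.prod
    (Λ.ρ g ∘ₗ LinearMap.fst ℤ _ _ + shapL Λ H c g ∘ₗ LinearMap.snd ℤ _ _)
    (Representation.ofMulAction ℤ Γ (Γ ⧸ H) g ∘ₗ LinearMap.snd ℤ _ _)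
  map_one' := by
    have h1 : c 1 = 0 := by simpa using hc 1 1
    have h0 : shapL Λ H c 1 = 0 := by
      ext x
      have : shap Λ H c 1 x = 0 := by
        have e : comp H 1 x = 1 := by ext; simp [comp]
        rw [shap, e, h1, map_zero]
      simp [shapL, this]
    refine LinearMap.ext fun v => Prod.ext ?_ ?_ <;> simp [h0]
  map_mul' g g' := by
    have h0 : shapL Λ H c (g * g') = Λ.ρ g ∘ₗ shapL Λ H c g' +
        shapL Λ H c g ∘ₗ Representation.ofMulAction ℤ Γ (Γ ⧸ H) g' := by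
      ext x
      simp [shapL, shap_mul Λ H c hc]
    refine LinearMap.ext fun v => Prod.ext ?_ ?_ <;> simp [h0, add_assoc]

include hc in
theorem exists_coboundary
    (hs : ∀ (X : Type) [MulAction Γ X] [Finite X] (E : ShortComplex (Rep.{0} ℤ Γ)),
      E.ShortExact → Nonempty (E.X₁ ≅ Λ) → Nonempty (E.X₃ ≅ Rep.ofMulAction ℤ Γ X) →
        Nonempty E.Splitting) [Finite Γ] :
    ∃ l, ∀ a : H, c a = Λ.ρ (a : Γ) l - l := by
  let ι : Λ ⟶ Rep.of (extRep Λ H c hc) := Rep.ofHom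
    ((LinearMap.inl ℤ Λ.V ℤ[Γ ⧸ H]).intertwiningMap_of_isIntertwiningMap Λ.ρ (extRep Λ H c hc)
      (fun g v => by simp [extRep]))
  let π : Rep.of (extRep Λ H c hc) ⟶ Rep.ofMulAction ℤ Γ (Γ ⧸ H) := Rep.ofHom
    ((LinearMap.snd ℤ Λ.V ℤ[Γ ⧸ H]).intertwiningMap_of_isIntertwiningMap (extRep Λ H c hc)
      (Representation.ofMulAction ℤ Γ (Γ ⧸ H)) (fun g v => by simp [extRep]))
  let E := ShortComplex.mk ι π (Rep.hom_ext (Representation.IntertwiningMap.ext (LinearMap.ext fun v => rfl)))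
  have : Mono ι := (Rep.mono_iff_injective ι).mpr LinearMap.inl_injective
  have : Epi π := (Rep.epi_iff_surjective π).mpr LinearMap.snd_surjective
  have hex : E.Exact := by
    rw [← E.exact_map_iff_of_faithful (forget₂ (Rep.{0} ℤ Γ) (ModuleCat.{0} ℤ)),
      ShortComplex.moduleCat_exact_iff]
    intro v hv
    exact ⟨v.1, Prod.ext rfl (show (0 : ℤ[Γ ⧸ H]) = v.2 from hv.symm)⟩
  obtain ⟨sp⟩ := hs (Γ ⧸ H) E { exact := hex, mono_f := ‹Mono ι›, epi_g := ‹Epi π› } ⟨Iso.refl _⟩ ⟨Iso.refl _⟩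
  set x₀ : Γ ⧸ H := ((1 : Γ) : Γ ⧸ H)
  set w := sp.s.hom (MonoidAlgebra.single x₀ (1 : ℤ))
  have hw2 : w.2 = MonoidAlgebra.single x₀ 1 :=
    congrArg (fun f : E.X₃ ⟶ E.X₃ => f.hom (MonoidAlgebra.single x₀ (1 : ℤ))) sp.s_g
  refine ⟨-w.1, fun a => ?_⟩
  have hfix : (a : Γ) • x₀ = x₀ := by
    rw [MulAction.Quotient.smul_coe, smul_eq_mul, mul_one]
    exact QuotientGroup.eq.mpr (by simp)
  have h1 : extRep Λ H c hc (a : Γ) w = w := by
    refine (Rep.hom_comm_apply sp.s (a : Γ) _).symm.trans (congrArg sp.s.hom ?_)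
    exact (Representation.ofMulAction_single _ _ _).trans (by rw [hfix])
  have h2 : Λ.ρ (a : Γ) w.1 + shapL Λ H c a w.2 = w.1 := congrArg Prod.fst h1
  have e : comp H (a : Γ) x₀ = a := by
    ext; simp [comp, hfix, sect, x₀]
  have h3 : shapL Λ H c a w.2 = c a := by
    simp [hw2, shapL, shap, hfix, e, sect, x₀]
    exact @one_smul ℤ _ _ Λ.hV2.toMulAction _
  rw [h3] at h2
  rw [map_neg]
  nth_rewrite 2 [← h2]
  abel

end Extension

theorem main [Finite Γ] (Λ : Rep.{0} ℤ Γ) :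
    (∀ Γ' : Subgroup Γ, Limits.IsZero (groupCohomology (Rep.res Γ'.subtype Λ) 1)) ↔
      ∀ (X : Type) [MulAction Γ X] [Finite X] (E : ShortComplex (Rep.{0} ℤ Γ)),
        E.ShortExact → Nonempty (E.X₁ ≅ Λ) → Nonempty (E.X₃ ≅ Rep.ofMulAction ℤ Γ X) →
          Nonempty E.Splitting := by
  classical
  refine ⟨fun h X _ _ E hE ⟨φ⟩ ⟨ψ⟩ => exists_splitting Λ h X E hE φ ψ, fun hs H => ?_⟩
  rw [ModuleCat.isZero_iff_subsingleton]
  refine subsingleton_of_forall_eq 0 fun y => ?_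
  induction y using H1_induction_on with
  | h f =>
    rw [H1π_eq_zero_iff]
    obtain ⟨l, hl⟩ := exists_coboundary Λ H (fun a => f a)
      (fun a b => (mem_cocycles₁_iff _).mp f.2 a b) hs
    exact ⟨l, funext fun a => (hl a).symm⟩

end Groth.L14.Coflasque
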